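import Mathlib
import Cfsg.Agent.S0144
import Cfsg.Agent.S0205
import Cfsg.Agent.S0215
import Cfsg.Agent.Grp.MinNormal
import Cfsg.Agent.Solv.FpfThompson
import Cfsg.Agent.Solv.NilpAmb
import Cfsg.Agent.Solv.SylowSystem

/-!
Groups in which every element outside a normal subgroup `D` has prime power order: when the
quotient is not solvable, `D` is a 2-group (`PPow.isPGroup_ker`).
-/

set_option autoImplicit false

namespace Cfsg.Agent.PPow

open Subgroup

universe u

variable {X : Type*} [Group X] [Finite X]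

theorem eq_one {D : Subgroup X} (h : ∀ x ∉ D, IsPrimePow (orderOf x)) {x y : X} (hx : x ∉ D)
    (hy : y ∈ D) (c : Commute x y) (co : (orderOf x).Coprime (orderOf y)) : y = 1 := by
  have k := h (x * y) fun m => hx ((mul_mem_cancel_right hy).1 m)
  rw [c.orderOf_mul_eq_mul_orderOf_of_coprime co] at k
  rcases (Nat.Coprime.isPrimePow_dvd_mul co k).1 dvd_rfl with d | d
  · exact orderOf_eq_one_iff.1 (Nat.dvd_one.1 (Nat.dvd_of_mul_dvd_mul_left (orderOf_pos x)
      (by rwa [mul_one])))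
  · rw [orderOf_eq_one_iff.1 (Nat.dvd_one.1 (Nat.dvd_of_mul_dvd_mul_right (orderOf_pos y)
      (by rwa [one_mul] : orderOf x * orderOf y ∣ 1 * orderOf y)))] at hx
    exact absurd D.one_mem hx

theorem map {X' : Type*} [Group X'] {D : Subgroup X} (h : ∀ x ∉ D, IsPrimePow (orderOf x))
    (f : X →* X') (hf : Function.Surjective f) {D' : Subgroup X'} (hD : D ≤ D'.comap f) :
    ∀ x ∉ D', IsPrimePow (orderOf x) := fun x hx => by
  obtain ⟨x, rfl⟩ := hf x
  exact (h x fun m => hx (hD m)).dvd (orderOf_map_dvd f x) fun e =>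
    hx (orderOf_eq_one_iff.1 e ▸ D'.one_mem)

/-- A nonsolvable group whose elements have prime power order has a four-group. -/
theorem four (hns : ¬ Group.IsSolvable X) (h : ∀ x ∉ (⊥ : Subgroup X), IsPrimePow (orderOf x))
    (P : Sylow 2 X) : ∃ a ∈ P, ∃ b ∈ P, orderOf a = 2 ∧ orderOf b = 2 ∧ a ≠ b ∧ Commute a b := by
  by_contra hc
  push Not at hc
  have ev : 2 ∣ Nat.card X := even_iff_two_dvd.1
    (Nat.not_odd_iff_even.1 fun k => hns (S0205.result k))
  obtain ⟨t, ht, htc, ot⟩ := Solv.NA.exists_central_of_dvd (p := 2) (A := (P : Subgroup X))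
    P.2.isNilpotent (Solv.NA.dvd_card_of_ne_bot P.2 (P.ne_bot_of_dvd_card ev))
  obtain ⟨N, hN, oN, hNc⟩ := S0215.result P t ot ht fun g hg => by
    by_contra ne
    exact hc _ hg t ht (((MulAut.conj g).orderOf_eq t).trans ot) ot ne (htc _ hg)
  have sj := QuotientGroup.mk'_surjective N
  have hq := map h _ sj (D' := ⊥) bot_le
  have t1 : (t : X ⧸ N) ≠ 1 := fun e => by
    have := orderOf_dvd_natCard N ((QuotientGroup.eq_one_iff t).1 e)
    exact (Nat.not_even_iff_odd.2 oN) (even_iff_two_dvd.2 (ot ▸ this))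
  have ot' : orderOf (t : X ⧸ N) = 2 := ((Nat.dvd_prime Nat.prime_two).1
    (ot ▸ orderOf_map_dvd (QuotientGroup.mk' N) t)).resolve_left fun e =>
      t1 (orderOf_eq_one_iff.1 e)
  have k2 : IsPGroup 2 (⊤ : Subgroup (X ⧸ N)) := by
    by_contra k
    obtain ⟨r, hr, hr2, hd⟩ := Solv.NA.exists_prime_ne_of_not_isPGroup k
    have := Fact.mk hr
    rw [card_top] at hd
    obtain ⟨y, hy⟩ := exists_prime_orderOf_dvd_card' r hd
    have c : Commute (t : X ⧸ N) y := by
      obtain ⟨y, rfl⟩ := sj y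
      have := (QuotientGroup.eq_one_iff _).2 (hNc y)
      rw [QuotientGroup.mk_mul, QuotientGroup.mk_mul, QuotientGroup.mk_mul,
        QuotientGroup.mk_inv, QuotientGroup.mk_inv] at this
      exact commutatorElement_eq_one_iff_commute.1 this
    have co : (orderOf (t : X ⧸ N)).Coprime (orderOf y) := by
      rw [ot', hy]; exact (Nat.coprime_primes Nat.prime_two hr).2 hr2.symm
    have k := hq (t * y) fun m => by
      have := c.orderOf_mul_eq_mul_orderOf_of_coprime co
      rw [mem_bot.1 m, orderOf_one, ot'] at this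
      omega
    rw [c.orderOf_mul_eq_mul_orderOf_of_coprime co] at k
    rcases (Nat.Coprime.isPrimePow_dvd_mul co k).1 dvd_rfl with d | d
    · rw [ot', hy] at d
      have := Nat.le_of_dvd two_pos d
      have := hr.two_le
      omega
    · rw [ot', hy] at d
      have := Nat.le_of_dvd hr.pos d
      have := hr.two_le
      omega
  have := (k2.of_equiv topEquiv).isNilpotent
  have := S0205.result oN
  exact hns (Group.isSolvable_of_ker_le_range N.subtype (QuotientGroup.mk' N) (by simp))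

variable {Q : Type*} [Group Q] [Finite Q]

/-- An odd normal subgroup of the kernel centralized by the 2-elements of the kernel is trivial. -/
theorem eq_bot (hns : ¬ Group.IsSolvable Q) (φ : X →* Q) (sj : Function.Surjective φ)
    (h : ∀ x ∉ φ.ker, IsPrimePow (orderOf x)) (P : Sylow 2 X) {W : Subgroup X} [W.Normal]
    (hW : W ≤ φ.ker) (oW : Odd (Nat.card W))
    (hc : ∀ d ∈ P, d ∈ φ.ker → ∀ w ∈ W, d * w = w * d) : W = ⊥ := by
  obtain ⟨_, ⟨a, ha, rfl⟩, _, ⟨b, hb, rfl⟩, oa, ob, ne, c⟩ :=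
    four hns (map h φ sj (D' := ⊥) le_rfl) (P.mapSurjective sj)
  have fp : ∀ a ∈ P, a ∉ φ.ker → ∀ w ∈ W, a * w * a⁻¹ = w → w = 1 := fun a ha a1 w hw e => by
    obtain ⟨k, hk⟩ := IsPGroup.iff_orderOf.1 P.2 ⟨a, ha⟩
    rw [← Subgroup.orderOf_coe] at hk
    refine eq_one h a1 (hW hw) (mul_inv_eq_iff_eq_mul.1 e) ?_
    rw [show orderOf a = 2 ^ k from hk]
    exact ((Nat.coprime_two_left.2 oW).coprime_dvd_right (orderOf_dvd_natCard W hw)).pow_left k
  have iv : ∀ a ∈ P, orderOf (φ a) = 2 → ∀ w ∈ W, a * w * a⁻¹ = w⁻¹ := fun a ha o w hw => by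
    have hf : MonoidHom.FixedPointFree (MulAut.conjNormal a : MulAut W) := fun x hx =>
      Subtype.ext (fp a ha (fun m => by
        rw [MonoidHom.mem_ker.1 m, orderOf_one] at o; omega) x x.2 (congrArg Subtype.val hx))
    have hi : Function.Involutive (MulAut.conjNormal a : MulAut W) := fun x => by
      apply Subtype.ext
      show a * (a * x * a⁻¹) * a⁻¹ = x
      have := hc (a * a) (P.mul_mem ha ha) (by
        rw [MonoidHom.mem_ker, ← sq, map_pow, ← o, pow_orderOf_eq_one]) x x.2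
      calc a * (a * x * a⁻¹) * a⁻¹ = (a * a) * x * (a * a)⁻¹ := by group
        _ = x := by rw [this]; group
    exact congrArg Subtype.val (congrFun (hf.coe_eq_inv_of_involutive hi) ⟨w, hw⟩)
  refine eq_bot_iff.2 fun w hw => fp (a * b) (P.mul_mem ha hb) (fun m => ne ?_) w hw ?_
  · rw [MonoidHom.mem_ker, map_mul] at m
    have : φ b * φ b = 1 := by rw [← sq, ← ob, pow_orderOf_eq_one]
    exact mul_right_cancel (m.trans this.symm)
  · calc a * b * w * (a * b)⁻¹ = a * (b * w * b⁻¹) * a⁻¹ := by group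
      _ = w := by rw [iv b hb ob w hw, iv a ha oa _ (W.inv_mem hw), inv_inv]

omit [Finite X] [Finite Q] in
theorem surj_sub (φ : X →* Q) (sj : Function.Surjective φ) {Y : Subgroup X}
    (hY : Y ⊔ φ.ker = ⊤) : Function.Surjective (φ.comp Y.subtype) := fun q => by
  obtain ⟨x, rfl⟩ := sj q
  have : x ∈ ((Y ⊔ φ.ker : Subgroup X) : Set X) := by rw [hY]; trivial
  rw [mul_normal] at this
  obtain ⟨y, hy, k, hk, rfl⟩ := this
  exact ⟨⟨y, hy⟩, by simp [MonoidHom.mem_ker.1 hk]⟩

theorem isPGroup_ker (hns : ¬ Group.IsSolvable Q) (X : Type u) [Group X] [Finite X] :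
    ∀ φ : X →* Q, Function.Surjective φ → (∀ x ∉ φ.ker, IsPrimePow (orderOf x)) →
      IsPGroup 2 φ.ker := by
  refine Grp.card_induction (P := fun X _ _ => ∀ φ : X →* Q, Function.Surjective φ →
    (∀ x ∉ φ.ker, IsPrimePow (orderOf x)) → IsPGroup 2 φ.ker) (fun X _ _ ih φ sj h => ?_) X
  have sub : ∀ Y : Subgroup X, Y ≠ ⊤ → Y ⊔ φ.ker = ⊤ → ∀ x ∈ Y, x ∈ φ.ker → ∀ r : ℕ, r.Prime →
      orderOf x = r → r = 2 := fun Y hY e x hx hk r hr o => by
    obtain ⟨k, hk⟩ := IsPGroup.iff_orderOf.1 (ih Y (Grp.card_lt_of_ne_top hY) _ (surj_sub φ sj e)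
      fun y hy => by rw [← Subgroup.orderOf_coe]; exact h y hy) ⟨⟨x, hx⟩, hk⟩
    rw [← Subgroup.orderOf_coe, ← Subgroup.orderOf_coe] at hk
    exact (Nat.prime_dvd_prime_iff_eq hr Nat.prime_two).1
      (hr.dvd_of_dvd_pow (n := k) (by rw [← o, ← hk]))
  obtain ⟨P⟩ : Nonempty (Sylow 2 φ.ker) := inferInstance
  have hS := P.2.map φ.ker.subtype
  set S := (P : Subgroup φ.ker).map φ.ker.subtype with hSd
  obtain ⟨R, hR⟩ := hS.exists_le_sylow
  have hRS : ∀ d ∈ R, d ∈ φ.ker → d ∈ S := fun d hd hk => by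
    have e := P.3 (R.2.comap_subtype (K := φ.ker)) (map_le_iff_le_comap.1 hR)
    exact ⟨⟨d, hk⟩, e ▸ hd, rfl⟩
  by_contra hD
  obtain ⟨q, hq, hq2, hqd⟩ := Solv.NA.exists_prime_ne_of_not_isPGroup hD
  have := Fact.mk hq
  by_cases hY : normalizer (S : Set X) = ⊤
  · have := normalizer_eq_top_iff.1 hY
    by_cases S1 : S = ⊥
    · have e := eq_bot hns φ sj h R le_rfl (Nat.not_even_iff_odd.1 fun e =>
        P.ne_bot_of_dvd_card e.two_dvd ((map_eq_bot_iff_of_injective _ (subtype_injective _)).1 S1))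
        fun d hd hk w _ => by rw [mem_bot.1 (S1.le (hRS d hd hk)), one_mul, mul_one]
      exact hD (e ▸ IsPGroup.of_bot)
    have le : S ≤ φ.ker := map_subtype_le _
    have k := ih _ (Grp.card_quotient_lt S S1) (QuotientGroup.lift S φ le)
      (fun y => by obtain ⟨x, rfl⟩ := sj y; exact ⟨x, rfl⟩)
      (map h _ (QuotientGroup.mk'_surjective S) fun x hx => hx)
    exact hD ((k.comap_of_ker_isPGroup (QuotientGroup.mk' S) (by rwa [QuotientGroup.ker_mk'])).to_le
      fun x hx => hx)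
  obtain ⟨T₀⟩ : Nonempty (Sylow q φ.ker) := inferInstance
  have hT := T₀.2.map φ.ker.subtype
  set T := (T₀ : Subgroup φ.ker).map φ.ker.subtype with hTd
  have T1 : T ≠ ⊥ := fun e =>
    T₀.ne_bot_of_dvd_card hqd ((map_eq_bot_iff_of_injective _ (subtype_injective _)).1 e)
  have hTk : T ≤ φ.ker := map_subtype_le _
  have : T.Normal := normalizer_eq_top_iff.1 (by
    by_contra k
    obtain ⟨z, hz, -, oz⟩ := Solv.NA.exists_central_of_dvd (p := q) hT.isNilpotent
      (Solv.NA.dvd_card_of_ne_bot hT T1)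
    exact hq2 (sub _ k T₀.normalizer_sup_eq_top z (le_normalizer hz) (hTk hz) q hq oz))
  obtain ⟨p, hp, hp2, hpq, hpd⟩ : ∃ p : ℕ, p.Prime ∧ p ≠ 2 ∧ p ≠ q ∧ p ∣ Nat.card Q := by
    rcases Solv.eq_pow_mul_pow_or_three_primes (n := Nat.card Q) Nat.card_pos.ne' with
      ⟨a, b, i, j, ha, hb, e⟩ | ⟨a, b, c, ha, hb, hc, n1, n2, n3, d1, d2, d3⟩
    · exact absurd (S0144.result a b i j ha hb e) hns
    by_contra k
    push Not at k
    have k1 : a = 2 ∨ a = q := by by_contra m; push Not at m; exact k a ha m.1 m.2 d1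
    have k2 : b = 2 ∨ b = q := by by_contra m; push Not at m; exact k b hb m.1 m.2 d2
    have k3 : c = 2 ∨ c = q := by by_contra m; push Not at m; exact k c hc m.1 m.2 d3
    omega
  have := Fact.mk hp
  obtain ⟨⟨x, hx⟩, ox⟩ := exists_prime_orderOf_dvd_card' (G := normalizer (S : Set X)) p
    (hpd.trans (card_dvd_of_surjective _ (surj_sub φ sj P.normalizer_sup_eq_top)))
  rw [← Subgroup.orderOf_coe] at ox
  have xk : x ∉ φ.ker := fun m => hp2 (sub _ hY P.normalizer_sup_eq_top x hx m p hp ox)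
  obtain ⟨i, hi⟩ := hS.exists_card_eq
  obtain ⟨j, hj⟩ := hT.exists_card_eq
  have nil : Group.IsNilpotent (S ⊔ T : Subgroup X) := by
    refine Solv.isNilpotent_of_inf_centralizer_eq_bot _
      (normalizer_inf_normalizer_le_normalizer_sup S T ⟨hx, le_normalizer_of_normal (mem_top x)⟩) hp
      (by rw [← show orderOf x = p from ox, pow_orderOf_eq_one]) (eq_bot_iff.2 fun y hy => ?_)
    refine eq_one h xk (sup_le (map_subtype_le _) hTk hy.1)
      (mem_centralizer_singleton_iff.1 hy.2).symm ?_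
    rw [show orderOf x = p from ox]
    refine Nat.Coprime.coprime_dvd_right
      ((orderOf_dvd_natCard _ hy.1).trans (Grp.card_sup_dvd S T)) ?_
    rw [hi, hj]
    exact (((Nat.coprime_primes hp Nat.prime_two).2 hp2).pow_right i).mul_right
      (((Nat.coprime_primes hp hq).2 hpq).pow_right j)
  refine T1 (eq_bot hns φ sj h R hTk (hj ▸ (hq.odd_of_ne_two hq2).pow) fun d hd hk w hw => ?_)
  refine (Solv.NA.le_centralizer_of_coprime nil le_sup_left le_sup_right ?_ (hRS d hd hk) w hw).symm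
  rw [hi, hj]
  exact Nat.coprime_pow_primes i j Nat.prime_two hq hq2.symm

end Cfsg.Agent.PPow
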